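import Mathlib
import Groth.Agent.FlatDescent.Colimit

/-!
# Truncations `F / (N + J^k F)` of a presented module and their base change
-/

universe u

open TensorProduct MvPolynomial

namespace Groth.FlatDescent.Trunc

variable {σ κ : Type} {A A' : Type u} [CommRing A] [CommRing A']

/-- `N + J^k F`. -/
noncomputable def truncN (J : Ideal (MvPolynomial σ A)) (N : Submodule (MvPolynomial σ A) (κ → MvPolynomial σ A)) (k : ℕ) :
    Submodule (MvPolynomial σ A) (κ → MvPolynomial σ A) :=
  N ⊔ J ^ k • ⊤

theorem baseN_sup (φ : A →+* A') (N K : Submodule (MvPolynomial σ A) (κ → MvPolynomial σ A)) :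
    baseN φ (N ⊔ K) = baseN φ N ⊔ baseN φ K := by
  refine le_antisymm (Submodule.span_le.mpr ?_) (sup_le (baseN_mono le_sup_left) (baseN_mono le_sup_right))
  rintro _ ⟨x, hx, rfl⟩
  obtain ⟨a, ha, b, hb, rfl⟩ := Submodule.mem_sup.mp hx
  rw [map_add]
  exact Submodule.add_mem_sup (mapF_mem_baseN ha) (mapF_mem_baseN hb)

theorem baseN_top [Finite κ] (φ : A →+* A') :
    baseN (σ := σ) φ (⊤ : Submodule (MvPolynomial σ A) (κ → MvPolynomial σ A)) = ⊤ := by
  classical
  haveI := Fintype.ofFinite κ
  rw [eq_top_iff]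
  intro v _
  have : v = ∑ i, v i • mapF φ (Pi.single i (1 : MvPolynomial σ A)) := by
    funext j
    simp [Finset.sum_apply, Pi.single_apply, apply_ite (map φ)]
  rw [this]
  exact sum_mem fun i _ => Submodule.smul_mem _ _ (mapF_mem_baseN trivial)

theorem baseN_smul (φ : A →+* A') (I : Ideal (MvPolynomial σ A))
    (N : Submodule (MvPolynomial σ A) (κ → MvPolynomial σ A)) :
    baseN φ (I • N) = I.map (map φ) • baseN φ N := by
  refine le_antisymm ?_ ?_
  · refine Submodule.span_le.mpr ?_
    rintro _ ⟨x, hx, rfl⟩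
    induction hx using Submodule.smul_induction_on' with
    | smul r hr y hy => rw [mapF_smul]; exact Submodule.smul_mem_smul (Ideal.mem_map_of_mem _ hr) (mapF_mem_baseN hy)
    | add a _ b _ ha hb => rw [map_add]; exact add_mem ha hb
  · rw [baseN, Ideal.map, Submodule.span_smul_span, Submodule.span_le]
    rintro _ ⟨_, ⟨r, hr, rfl⟩, _, ⟨y, hy, rfl⟩, rfl⟩
    show map φ r • mapF φ y ∈ _
    rw [← mapF_smul]
    exact mapF_mem_baseN (Submodule.smul_mem_smul hr hy)

variable [Finite κ]

theorem baseN_truncN (φ : A →+* A') (J : Ideal (MvPolynomial σ A))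
    (N : Submodule (MvPolynomial σ A) (κ → MvPolynomial σ A)) (k : ℕ) :
    baseN φ (truncN J N k) = truncN (J.map (map φ)) (baseN φ N) k := by
  rw [truncN, truncN, baseN_sup, baseN_smul, baseN_top, Ideal.map_pow]

variable [Finite σ]

/-- Flatness of the `k`-th truncation after base change to `A'`. -/
def Good (J : Ideal (MvPolynomial σ A)) (N : Submodule (MvPolynomial σ A) (κ → MvPolynomial σ A)) (A' : Type u)
    [CommRing A'] [Algebra A A'] (k : ℕ) : Prop :=
  Module.Flat A' (A' ⊗[A] ((κ → MvPolynomial σ A) ⧸ truncN J N k))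

/-- The truncation of the base change. -/
theorem nonempty_truncEquiv [Algebra A A'] (J : Ideal (MvPolynomial σ A))
    (N : Submodule (MvPolynomial σ A) (κ → MvPolynomial σ A)) (k : ℕ) :
    Nonempty (((κ → MvPolynomial σ A') ⧸ truncN (J.map (map (algebraMap A A'))) (baseN (algebraMap A A') N) k) ≃ₗ[A']
      A' ⊗[A] ((κ → MvPolynomial σ A) ⧸ truncN J N k)) := by
  obtain ⟨e⟩ := baseNEquiv (R := A') (truncN J N k)
  exact ⟨(Submodule.quotEquivOfEq _ _ (baseN_truncN (algebraMap A A') J N k).symm).restrictScalars A' ≪≫ₗ e⟩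

theorem good_iff [Algebra A A'] (J : Ideal (MvPolynomial σ A))
    (N : Submodule (MvPolynomial σ A) (κ → MvPolynomial σ A)) (k : ℕ) :
    Good J N A' k ↔
      Module.Flat A' ((κ → MvPolynomial σ A') ⧸ truncN (J.map (map (algebraMap A A'))) (baseN (algebraMap A A') N) k) := by
  obtain ⟨e⟩ := nonempty_truncEquiv (A' := A') J N k
  exact (Module.Flat.equiv_iff e).symm

theorem Good.baseChange [Algebra A A'] {A'' : Type u} [CommRing A''] [Algebra A A''] [Algebra A' A'']
    [IsScalarTower A A' A''] {J : Ideal (MvPolynomial σ A)}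
    {N : Submodule (MvPolynomial σ A) (κ → MvPolynomial σ A)} {k : ℕ} (h : Good J N A' k) : Good J N A'' k := by
  unfold Good at h ⊢
  exact Module.Flat.of_linearEquiv (AlgebraTensorModule.cancelBaseChange A A' A'' A'' _).symm

/-- Goodness over an intermediate base. -/
theorem good_tower [Algebra A A'] {A'' : Type u} [CommRing A''] [Algebra A A''] [Algebra A' A'']
    [IsScalarTower A A' A''] (J : Ideal (MvPolynomial σ A))
    (N : Submodule (MvPolynomial σ A) (κ → MvPolynomial σ A)) (k : ℕ) :
    Good (J.map (map (algebraMap A A'))) (baseN (algebraMap A A') N) A'' k ↔ Good J N A'' k := by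
  obtain ⟨e⟩ := nonempty_truncEquiv (A' := A') J N k
  exact Module.Flat.equiv_iff ((AlgebraTensorModule.congr (LinearEquiv.refl A'' A'') e) ≪≫ₗ
    AlgebraTensorModule.cancelBaseChange A A' A'' A'' _)

end Groth.FlatDescent.Trunc
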