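import Mathlib
import Groth.Agent.FlatDescent.Trunc.Basic

/-!
# Flatness from flatness of truncations, Noetherian case
-/

universe u

open TensorProduct MvPolynomial

namespace Groth.FlatDescent.Trunc

/-- Flat quotient: `N ∩ I F = I N`. -/
theorem mem_smul_of_flat {A P F : Type u} [CommRing A] [CommRing P] [Algebra A P] [AddCommGroup F] [Module A F]
    [Module P F] [IsScalarTower A P F] (N : Submodule P F) [Module.Flat A (F ⧸ N)] (I : Ideal A) {x : F} (hxN : x ∈ N)
    (hx : x ∈ I.map (algebraMap A P) • (⊤ : Submodule P F)) : x ∈ I.map (algebraMap A P) • N := by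
  let S : Ideal P := Submodule.comap (LinearMap.toSpanSingleton P F x) (I.map (algebraMap A P) • N)
  by_contra hne
  obtain ⟨Q, hQ, hSQ⟩ := Ideal.exists_le_maximal S fun hS => hne (by
    have : (1 : P) ∈ S := hS ▸ Submodule.mem_top
    simpa [S] using this)
  obtain ⟨s, hs, hsx⟩ := torVan_of_flatAt N Q (flatAt_of_flat Q) I x hxN hx
  exact hs (hSQ (show s ∈ S by simpa [S] using hsx))

variable {σ κ : Type} [Finite σ] [Finite κ] {A : Type u} [CommRing A] [IsNoetherianRing A]

/-- Krull: `TorVan` holds for `N` if it holds modulo all powers of an ideal contained in `q`. -/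
theorem torVan_of_forall (N : Submodule (MvPolynomial σ A) (κ → MvPolynomial σ A)) (p : Ideal A)
    (q : Ideal (MvPolynomial σ A)) [q.IsPrime] (J : Ideal (MvPolynomial σ A)) (hJ : J ≤ q)
    (h : ∀ (n : ℕ), ∀ x ∈ N, x ∈ p.map (algebraMap A (MvPolynomial σ A)) • (⊤ : Submodule (MvPolynomial σ A) (κ → MvPolynomial σ A)) →
      ∃ s : MvPolynomial σ A, s ∉ q ∧ s • x ∈ p.map (algebraMap A (MvPolynomial σ A)) • N ⊔ J ^ n • ⊤) :
    TorVan N p q := by
  intro x hxN hx
  let P := MvPolynomial σ A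
  let F := κ → P
  let L : Submodule P F := p.map (algebraMap A P) • N
  let Pq := Localization.AtPrime q
  let loc : (F ⧸ L) →ₗ[P] LocalizedModule q.primeCompl (F ⧸ L) := LocalizedModule.mkLinearMap q.primeCompl (F ⧸ L)
  haveI : IsNoetherianRing Pq := IsLocalization.isNoetherianRing q.primeCompl Pq inferInstance
  haveI : Module.Finite Pq (LocalizedModule q.primeCompl (F ⧸ L)) := inferInstance
  have hle : J.map (algebraMap P Pq) ≤ (⊥ : Ideal Pq).jacobson := by
    rw [IsLocalRing.jacobson_eq_maximalIdeal _ bot_ne_top, Ideal.map_le_iff_le_comap]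
    exact fun a ha => (IsLocalization.AtPrime.to_map_mem_maximal_iff Pq q _).mpr (hJ ha)
  have hzero : loc (Submodule.Quotient.mk x) = 0 := by
    rw [← Submodule.mem_bot Pq, ← Ideal.iInf_pow_smul_eq_bot_of_le_jacobson (J.map (algebraMap P Pq)) hle]
    refine Submodule.mem_iInf _ |>.mpr fun n => ?_
    obtain ⟨s, hs, hsx⟩ := h n x hxN hx
    obtain ⟨l, hl, j, hj, hlj⟩ := Submodule.mem_sup.mp hsx
    have hjm : loc (Submodule.Quotient.mk j) ∈
        J.map (algebraMap P Pq) ^ n • (⊤ : Submodule Pq (LocalizedModule q.primeCompl (F ⧸ L))) := by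
      rw [← Ideal.map_pow]
      refine Submodule.smul_induction_on hj (fun r hr y _ => ?_) (fun a b ha hb => ?_)
      · rw [Submodule.Quotient.mk_smul, map_smul, ← algebraMap_smul Pq r (loc _)]
        exact Submodule.smul_mem_smul (Ideal.mem_map_of_mem _ hr) trivial
      · rw [Submodule.Quotient.mk_add, map_add]
        exact add_mem ha hb
    have heq : algebraMap P Pq s • loc (Submodule.Quotient.mk x) = loc (Submodule.Quotient.mk j) := by
      rw [algebraMap_smul, ← map_smul, ← Submodule.Quotient.mk_smul, ← hlj, Submodule.Quotient.mk_add,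
        (Submodule.Quotient.mk_eq_zero L).mpr hl, zero_add]
    have hu : IsUnit (algebraMap P Pq s) := IsLocalization.map_units Pq (⟨s, hs⟩ : q.primeCompl)
    rwa [← Submodule.smul_mem_iff_of_isUnit _ hu, heq]
  obtain ⟨s, hs⟩ := (IsLocalizedModule.eq_zero_iff q.primeCompl loc).mp hzero
  refine ⟨s, s.2, ?_⟩
  exact (Submodule.Quotient.mk_eq_zero L).mp hs

/-- If all truncations along `J ≤ q` are flat then the module is flat at `q`. -/
theorem flatAt_of_forall_flat (J : Ideal (MvPolynomial σ A))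
    (N : Submodule (MvPolynomial σ A) (κ → MvPolynomial σ A))
    (h : ∀ k, Module.Flat A ((κ → MvPolynomial σ A) ⧸ truncN J N k)) (q : Ideal (MvPolynomial σ A)) [q.IsPrime]
    (hJ : J ≤ q) : FlatCA.FlatAt A q ((κ → MvPolynomial σ A) ⧸ N) := by
  refine flatAt_of_torVan N q (torVan_of_forall N _ q J hJ fun n x hxN hx => ⟨1, q.primeCompl.one_mem, ?_⟩)
  rw [one_smul]
  haveI := h n
  refine (Submodule.smul_mono le_rfl le_rfl).trans ?_ (mem_smul_of_flat (truncN J N n) _ (Submodule.mem_sup_left hxN) hx)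
  rw [truncN, Submodule.smul_sup]
  exact sup_le_sup le_rfl Submodule.smul_le_right

/-- The preimage of a base change along a localisation followed by a quotient. -/
theorem exists_smul_mem_of_mapF_mem {R : Type u} [CommRing R] (φ : A →+* R) (p : Ideal A) [p.IsPrime] (I : Ideal A)
    (hsurj : ∀ r : R, ∃ s, s ∉ p ∧ ∃ a, φ s * r = φ a) (hker : ∀ a, φ a = 0 → ∃ t, t ∉ p ∧ t * a ∈ I)
    (L : Submodule (MvPolynomial σ A) (κ → MvPolynomial σ A)) {x : κ → MvPolynomial σ A}
    (hx : mapF φ x ∈ baseN φ L) :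
    ∃ s : A, s ∉ p ∧ algebraMap A (MvPolynomial σ A) s • x ∈ L ⊔ I.map (algebraMap A (MvPolynomial σ A)) • ⊤ := by
  classical
  haveI := Fintype.ofFinite κ
  have hC : ∀ (c : A) (y : κ → MvPolynomial σ A), mapF φ (algebraMap A (MvPolynomial σ A) c • y) = φ c • mapF φ y := by
    intro c y
    rw [mapF_smul, algebraMap_eq, map_C, ← algebraMap_eq, algebraMap_smul]
  have key : ∀ v ∈ Submodule.span R (mapF φ '' (L : Set (κ → MvPolynomial σ A))),
      ∃ s : A, s ∉ p ∧ ∃ y ∈ L, φ s • v = mapF φ y := by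
    intro v hv
    induction hv using Submodule.span_induction with
    | mem v hv => obtain ⟨y, hy, rfl⟩ := hv; exact ⟨1, p.primeCompl.one_mem, y, hy, by rw [map_one, one_smul]⟩
    | zero => exact ⟨1, p.primeCompl.one_mem, 0, zero_mem _, by rw [smul_zero, map_zero]⟩
    | add a b _ _ ha hb =>
      obtain ⟨s, hs, y, hy, hay⟩ := ha
      obtain ⟨t, ht, z, hz, hbz⟩ := hb
      refine ⟨s * t, p.primeCompl.mul_mem hs ht, _, add_mem (L.smul_mem (algebraMap A _ t) hy) (L.smul_mem (algebraMap A _ s) hz), ?_⟩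
      rw [map_add, hC, hC, ← hay, ← hbz, smul_smul, smul_smul, smul_add, map_mul, mul_comm (φ t)]
    | smul c a _ ha =>
      obtain ⟨s, hs, y, hy, hay⟩ := ha
      obtain ⟨t, ht, b, hb⟩ := hsurj c
      refine ⟨t * s, p.primeCompl.mul_mem ht hs, _, L.smul_mem (algebraMap A _ b) hy, ?_⟩
      rw [hC, ← hay, smul_smul, smul_smul, map_mul, ← hb]
      ring_nf
  obtain ⟨s, hs, y, hy, hsy⟩ := key _ (mem_span_coeff_of_mem_baseN hx)
  let z := algebraMap A (MvPolynomial σ A) s • x - y
  have hz : ∀ i d, φ ((z i).coeff d) = 0 := fun i d => by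
    have h0 : mapF φ z = 0 := by rw [map_sub, hC, hsy, sub_self]
    rw [← MvPolynomial.coeff_map, ← mapF_apply, h0]
    rfl
  let S := (Finset.univ : Finset κ).sigma fun i => (z i).support
  choose t ht htI using fun a : S => hker _ (hz a.1.1 a.1.2)
  let T : A := ∏ a : S, t a
  have hT : T ∉ p := p.primeCompl.prod_mem fun a _ => ht a
  refine ⟨T * s, p.primeCompl.mul_mem hT hs, ?_⟩
  have hTz : algebraMap A (MvPolynomial σ A) T • z ∈ I.map (algebraMap A (MvPolynomial σ A)) • (⊤ : Submodule (MvPolynomial σ A) (κ → MvPolynomial σ A)) := by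
    rw [mem_smul_top_iff_coeff]
    intro i d
    rw [Pi.smul_apply, smul_eq_mul, algebraMap_eq, coeff_C_mul]
    by_cases hd : d ∈ (z i).support
    · obtain ⟨r, hr⟩ : t ⟨⟨i, d⟩, Finset.mem_sigma.mpr ⟨Finset.mem_univ _, hd⟩⟩ ∣ T :=
        Finset.dvd_prod_of_mem t (Finset.mem_univ _)
      rw [hr, mul_right_comm]
      exact I.mul_mem_right r (htI ⟨⟨i, d⟩, Finset.mem_sigma.mpr ⟨Finset.mem_univ _, hd⟩⟩)
    · rw [notMem_support_iff.mp hd, mul_zero]
      exact zero_mem _
  rw [smul_sub, ← mul_smul, ← map_mul] at hTz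
  have h1 := Submodule.add_mem_sup (L.smul_mem (algebraMap A (MvPolynomial σ A) T) hy) hTz
  rwa [add_sub_cancel] at h1

end Groth.FlatDescent.Trunc
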