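import Mathlib
import Groth.Agent.GenFree.Package

/-!
# Generic projectivity of all truncations `M / I^k M`
-/

universe u

open TensorProduct

namespace Groth.FlatDescent.Trunc

/-- A projective module becomes free after adding a free module. -/
theorem exists_free_prod {R : Type u} [CommRing R] (T : Type u) [AddCommGroup T] [Module R T] [Module.Projective R T] :
    ∃ ι : Type u, Module.Free R (T × (ι →₀ R)) := by
  classical
  obtain ⟨i, hi⟩ := (Module.projective_def' (R := R) (P := T)).mp inferInstance
  let s : (T →₀ R) →ₗ[R] T := Finsupp.linearCombination R id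
  let Q := LinearMap.ker s
  let e₀ : (T × Q) ≃ₗ[R] (T →₀ R) :=
    { toLinearMap := i.coprod Q.subtype
      invFun := fun x => (s x, ⟨x - i (s x), by
        show s (x - i (s x)) = 0
        rw [map_sub, show s (i (s x)) = s x from LinearMap.congr_fun hi (s x), sub_self]⟩)
      left_inv := fun p => by
        have h2 : s (i p.1) = p.1 := LinearMap.congr_fun hi p.1
        have h3 : s (p.2 : T →₀ R) = 0 := p.2.2
        refine Prod.ext ?_ (Subtype.ext ?_)
        · show s (i p.1 + (p.2 : T →₀ R)) = p.1
          rw [map_add, h2, h3, add_zero]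
        · show i p.1 + (p.2 : T →₀ R) - i (s (i p.1 + (p.2 : T →₀ R))) = p.2
          rw [map_add, h2, h3, add_zero, add_sub_cancel_left]
      right_inv := fun x => by
        show i (s x) + (x - i (s x)) = x
        abel }
  let eN : (ℕ →₀ T × Q) ≃ₗ[R] (ℕ →₀ (T →₀ R)) := Finsupp.mapRange.linearEquiv e₀
  let b : Module.Basis (ℕ × T) R (ℕ →₀ (T →₀ R)) := Module.Basis.ofRepr (Finsupp.curryLinearEquiv R).symm
  haveI : Module.Free R (ℕ →₀ T × Q) := Module.Free.of_equiv eN.symm
  let eSplit : (ℕ →₀ T × Q) ≃ₗ[R] (ℕ →₀ T) × (ℕ →₀ Q) :=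
    { toLinearMap := (Finsupp.mapRange.linearMap (LinearMap.fst R T Q)).prod (Finsupp.mapRange.linearMap (LinearMap.snd R T Q))
      invFun := fun p => Finsupp.zipWith Prod.mk rfl p.1 p.2
      left_inv := fun f => by ext n <;> simp
      right_inv := fun p => by refine Prod.ext ?_ ?_ <;> ext n <;> simp }
  let eShift : (T × (ℕ →₀ T)) ≃ₗ[R] (ℕ →₀ T) :=
    ((Finsupp.LinearEquiv.finsuppUnique R T Unit).symm.prodCongr (LinearEquiv.refl R (ℕ →₀ T))).trans
      ((Finsupp.sumFinsuppLEquivProdFinsupp R).symm.trans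
        (Finsupp.domLCongr ((Equiv.sumComm Unit ℕ).trans Equiv.natSumPUnitEquivNat)))
  let e : (T × (ℕ →₀ T × Q)) ≃ₗ[R] (ℕ →₀ T × Q) :=
    ((LinearEquiv.refl R T).prodCongr eSplit).trans ((LinearEquiv.prodAssoc R T (ℕ →₀ T) (ℕ →₀ Q)).symm.trans
      ((eShift.prodCongr (LinearEquiv.refl R (ℕ →₀ Q))).trans eSplit.symm))
  exact ⟨ℕ × T, Module.Free.of_equiv (e.symm.trans ((LinearEquiv.refl R T).prodCongr (eN.trans b.repr)))⟩

theorem projective_of_exact {R : Type u} [CommRing R] {X Y Z : Type u} [AddCommGroup X] [Module R X] [AddCommGroup Y]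
    [Module R Y] [AddCommGroup Z] [Module R Z] (f : X →ₗ[R] Y) (g : Y →ₗ[R] Z) (hf : Function.Injective f)
    (hfg : Function.Exact f g) (hg : Function.Surjective g) [Module.Projective R X] [Module.Projective R Z] :
    Module.Projective R Y := by
  obtain ⟨l, hl⟩ := Module.projective_lifting_property g LinearMap.id hg
  exact Module.Projective.of_equiv ((hfg.splitSurjectiveEquiv hf ⟨l, hl⟩).1).symm

/-- A module retract of a module that is free over `D_h` is projective over `D_h`. -/
theorem projective_tensor_of_retract {D Dh : Type u} [CommRing D] [CommRing Dh] [Algebra D Dh] {X G : Type u}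
    [AddCommGroup X] [Module D X] [AddCommGroup G] [Module D G] [Module.Free Dh (Dh ⊗[D] G)]
    (i : X →ₗ[D] G) (p : G →ₗ[D] X) (h : p.comp i = LinearMap.id) : Module.Projective Dh (Dh ⊗[D] X) := by
  refine Module.Projective.of_split (i.baseChange Dh) (p.baseChange Dh) ?_
  rw [← LinearMap.baseChange_comp, h, LinearMap.baseChange_id]

theorem projective_baseChange_of_exact {D Dh : Type u} [CommRing D] [CommRing Dh] [Algebra D Dh] [Module.Flat D Dh]
    {X Y Z : Type u} [AddCommGroup X] [Module D X] [AddCommGroup Y] [Module D Y] [AddCommGroup Z] [Module D Z]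
    (f : X →ₗ[D] Y) (g : Y →ₗ[D] Z) (hf : Function.Injective f) (hfg : Function.Exact f g) (hg : Function.Surjective g)
    (hX : Module.Projective Dh (Dh ⊗[D] X)) (hZ : Module.Projective Dh (Dh ⊗[D] Z)) :
    Module.Projective Dh (Dh ⊗[D] Y) :=
  projective_of_exact (f.baseChange Dh) (g.baseChange Dh) (Module.Flat.lTensor_preserves_injective_linearMap f hf)
    (lTensor_exact Dh hfg hg) (LinearMap.lTensor_surjective Dh hg)

section Pieces

variable {D : Type u} [CommRing D] {B : Type u} [CommRing B] [Algebra D B] (I : Ideal B)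
  (M : Type u) [AddCommGroup M] [Module B M] [Module D M] [IsScalarTower D B M]

/-- The piece `I^k M / I^{k+1} M`. -/
abbrev Piece (k : ℕ) : Type u :=
  ↥(I ^ k • (⊤ : Submodule B M)) ⧸ Submodule.comap (I ^ k • (⊤ : Submodule B M)).subtype (I ^ (k + 1) • ⊤)

/-- The Rees module of `M`. -/
noncomputable abbrev ReesMod : Submodule (reesAlgebra I) (PolynomialModule B M) :=
  (I.stableFiltration (⊤ : Submodule B M)).submodule

theorem coe_algebraMap_smul (b : B) (f : ↥(ReesMod I M)) :
    ((algebraMap B (reesAlgebra I) b • f : ↥(ReesMod I M)) : PolynomialModule B M) = b • (f : PolynomialModule B M) := by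
  show ((algebraMap B (reesAlgebra I) b : reesAlgebra I) : Polynomial B) • (f : PolynomialModule B M) = _
  rw [show ((algebraMap B (reesAlgebra I) b : reesAlgebra I) : Polynomial B) = algebraMap B (Polynomial B) b from rfl,
    algebraMap_smul]

/-- `x ↦ x t^k`. -/
noncomputable def inc (k : ℕ) : ↥(I ^ k • (⊤ : Submodule B M)) →ₗ[D] ↥(ReesMod I M) :=
  LinearMap.codRestrict ((ReesMod I M).restrictScalars D)
    (((PolynomialModule.lsingle B k).restrictScalars D).comp ((I ^ k • (⊤ : Submodule B M)).subtype.restrictScalars D))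
    fun x j => by
      show (PolynomialModule.lsingle B k (x : M)).coeff j ∈ I ^ j • (⊤ : Submodule B M)
      rw [PolynomialModule.lsingle_apply]
      split_ifs with h
      · subst h; exact x.2
      · exact zero_mem _

/-- The `k`-th coefficient. -/
noncomputable def proj (k : ℕ) : ↥(ReesMod I M) →ₗ[D] ↥(I ^ k • (⊤ : Submodule B M)) :=
  LinearMap.codRestrict ((I ^ k • (⊤ : Submodule B M)).restrictScalars D)
    ((Finsupp.lapply k).comp ((PolynomialModule.coeffLinearEquiv B D (M := M)).toLinearMap.comp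
      (((ReesMod I M).restrictScalars D).subtype)))
    fun f => f.2 k

theorem proj_inc (k : ℕ) (x : ↥(I ^ k • (⊤ : Submodule B M))) : proj (D := D) I M k (inc (D := D) I M k x) = x :=
  Subtype.ext (show (PolynomialModule.lsingle B k (x : M)).coeff k = (x : M) by
    rw [PolynomialModule.lsingle_apply, if_pos rfl])

/-- The ideal of `gr`. -/
noncomputable abbrev GrIdeal : Submodule (reesAlgebra I) ↥(ReesMod I M) :=
  (I.map (algebraMap B (reesAlgebra I))) • (⊤ : Submodule (reesAlgebra I) ↥(ReesMod I M))

theorem inc_mem (k : ℕ) (x : ↥(I ^ k • (⊤ : Submodule B M))) (hx : (x : M) ∈ I ^ (k + 1) • (⊤ : Submodule B M)) :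
    inc (D := D) I M k x ∈ GrIdeal I M := by
  rw [pow_succ', mul_smul] at hx
  obtain ⟨x, hxk⟩ := x
  change x ∈ I • (I ^ k • (⊤ : Submodule B M)) at hx
  induction hx using Submodule.smul_induction_on' with
  | smul b hb m hm =>
    have : inc (D := D) I M k ⟨b • m, hxk⟩ = algebraMap B (reesAlgebra I) b • inc (D := D) I M k ⟨m, hm⟩ := by
      refine Subtype.ext ?_
      rw [coe_algebraMap_smul]
      exact (PolynomialModule.lsingle B k).map_smul b m
    rw [this]
    exact Submodule.smul_mem_smul (Ideal.mem_map_of_mem _ hb) trivial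
  | add x hx y hy ihx ihy =>
    have hx' : x ∈ I ^ k • (⊤ : Submodule B M) := Submodule.smul_le_right hx
    have hy' : y ∈ I ^ k • (⊤ : Submodule B M) := Submodule.smul_le_right hy
    have h : inc (D := D) I M k ⟨x + y, hxk⟩ = inc (D := D) I M k ⟨x, hx'⟩ + inc (D := D) I M k ⟨y, hy'⟩ :=
      map_add (inc (D := D) I M k) ⟨x, hx'⟩ ⟨y, hy'⟩
    rw [h]
    exact add_mem (ihx hx') (ihy hy')

theorem proj_mem (k : ℕ) {f : ↥(ReesMod I M)} (hf : f ∈ GrIdeal I M) :
    (proj (D := D) I M k f : M) ∈ I ^ (k + 1) • (⊤ : Submodule B M) := by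
  induction hf using Submodule.smul_induction_on' with
  | smul r hr f _ =>
    induction hr using Submodule.span_induction generalizing f with
    | mem r hr =>
      obtain ⟨b, hb, rfl⟩ := hr
      show ((algebraMap B (reesAlgebra I) b • f : ↥(ReesMod I M)) : PolynomialModule B M).coeff k ∈ _
      rw [coe_algebraMap_smul, pow_succ', mul_smul]
      exact Submodule.smul_mem_smul hb (f.2 k)
    | zero =>
      rw [zero_smul, map_zero]
      exact zero_mem _
    | add a b _ _ ha hb =>
      rw [add_smul, map_add]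
      exact add_mem (ha f trivial) (hb f trivial)
    | smul c a _ ha =>
      rw [smul_eq_mul, mul_comm, mul_smul]
      exact ha _ trivial
  | add a _ b _ ha hb =>
    rw [map_add]
    exact add_mem ha hb

omit [Module D M] [IsScalarTower D B M] in
/-- One element makes every retract of a quotient of a finite module projective. -/
theorem exists_projective_retracts [IsDomain D] [IsNoetherianRing D] {R S : Type u} [CommRing R] [Algebra D R]
    [Algebra.FiniteType D R] [AddCommGroup S] [Module R S] [Module D S]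
    [IsScalarTower D R S] [Module.Finite R S] (J : Submodule R S) :
    ∃ h : D, h ≠ 0 ∧ ∀ {Y : Type u} [AddCommGroup Y] [Module B Y] [Module D Y] [IsScalarTower D B Y]
      (q : Submodule B Y) (i₀ : Y →ₗ[D] S) (p₀ : S →ₗ[D] Y), (∀ y ∈ q, i₀ y ∈ J) → (∀ x ∈ J, p₀ x ∈ q) →
      (∀ y, p₀ (i₀ y) = y) → Module.Projective (Localization.Away h) (Localization.Away h ⊗[D] (Y ⧸ q)) := by
  obtain ⟨h, hh, hfree⟩ := GenFree.exists_freeAt D (B := R) (S ⧸ J)
  haveI : Module.Free (Localization.Away h) (Localization.Away h ⊗[D] (S ⧸ J)) := GenFree.free_tensor dvd_rfl hfree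
  refine ⟨h, hh, fun {Y} _ _ _ _ q i₀ p₀ hi hp hpi => ?_⟩
  let i : (Y ⧸ q) →ₗ[D] S ⧸ J :=
    ((Submodule.Quotient.restrictScalarsEquiv D J).toLinearMap.comp
      (Submodule.mapQ (q.restrictScalars D) (J.restrictScalars D) i₀ hi)).comp
      (Submodule.Quotient.restrictScalarsEquiv D q).symm.toLinearMap
  let p : (S ⧸ J) →ₗ[D] Y ⧸ q :=
    ((Submodule.Quotient.restrictScalarsEquiv D q).toLinearMap.comp
      (Submodule.mapQ (J.restrictScalars D) (q.restrictScalars D) p₀ hp)).comp
      (Submodule.Quotient.restrictScalarsEquiv D J).symm.toLinearMap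
  refine projective_tensor_of_retract i p (LinearMap.ext fun t => ?_)
  obtain ⟨y, rfl⟩ := Submodule.Quotient.mk_surjective _ t
  exact congrArg Submodule.Quotient.mk (hpi y)

/-- One step of the filtration. -/
theorem projective_step {Dh : Type u} [CommRing Dh] [Algebra D Dh] [Module.Flat D Dh] (P' P : Submodule B M)
    (hle : P' ≤ P) (hX : Module.Projective Dh (Dh ⊗[D] (↥P ⧸ Submodule.comap P.subtype P')))
    (hZ : Module.Projective Dh (Dh ⊗[D] (M ⧸ P))) : Module.Projective Dh (Dh ⊗[D] (M ⧸ P')) := by
  let f₀ : (↥P ⧸ Submodule.comap P.subtype P') →ₗ[B] M ⧸ P' := Submodule.mapQ _ _ P.subtype fun x hx => hx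
  let g₀ : (M ⧸ P') →ₗ[B] M ⧸ P := Submodule.factor hle
  have hf₀ : Function.Injective f₀ := by
    rw [injective_iff_map_eq_zero]
    intro t ht
    obtain ⟨x, rfl⟩ := Submodule.Quotient.mk_surjective _ t
    refine (Submodule.Quotient.mk_eq_zero _).mpr ?_
    exact (Submodule.Quotient.mk_eq_zero P').mp ht
  have hfg₀ : Function.Exact f₀ g₀ := by
    intro t
    obtain ⟨x, rfl⟩ := Submodule.Quotient.mk_surjective _ t
    constructor
    · intro hx
      exact ⟨Submodule.Quotient.mk ⟨x, (Submodule.Quotient.mk_eq_zero _).mp hx⟩, rfl⟩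
    · rintro ⟨s, hs⟩
      obtain ⟨y, rfl⟩ := Submodule.Quotient.mk_surjective _ s
      rw [← hs]
      exact (Submodule.Quotient.mk_eq_zero _).mpr y.2
  exact projective_baseChange_of_exact (f₀.restrictScalars D) (g₀.restrictScalars D) hf₀ hfg₀
    (Submodule.factor_surjective hle) hX hZ

/-- **All truncations are projective** after inverting one element of the base domain. -/
theorem exists_projective_truncations [IsDomain D] [IsNoetherianRing D] [Algebra.FiniteType D B] [Module.Finite B M] :
    ∃ h : D, h ≠ 0 ∧ ∀ k, Module.Projective (Localization.Away h) (Localization.Away h ⊗[D] (M ⧸ (I ^ k • ⊤ : Submodule B M))) := by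
  haveI : IsNoetherianRing B := Algebra.FiniteType.isNoetherianRing D B
  haveI : Algebra.FiniteType B (reesAlgebra I) := inferInstance
  haveI : Algebra.FiniteType D (reesAlgebra I) := Algebra.FiniteType.trans (S := B) inferInstance inferInstance
  haveI : Module.Finite (reesAlgebra I) ↥(ReesMod I M) :=
    Module.Finite.iff_fg.mpr ((Ideal.Filtration.submodule_fg_iff_stable _
      fun i => IsNoetherian.noetherian _).mpr (Ideal.stableFiltration_stable I ⊤))
  obtain ⟨h, hh, hproj⟩ := exists_projective_retracts (D := D) (B := B) (R := ↥(reesAlgebra I)) (S := ↥(ReesMod I M)) (GrIdeal I M)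
  refine ⟨h, hh, fun k => ?_⟩
  let Dh := Localization.Away h
  induction k with
  | zero =>
    haveI : Subsingleton (M ⧸ (I ^ 0 • ⊤ : Submodule B M)) := Submodule.Quotient.subsingleton_iff.mpr (by simp)
    infer_instance
  | succ k ih =>
    haveI : Module.Flat D Dh := IsLocalization.flat Dh (Submonoid.powers h)
    exact projective_step M (I ^ (k + 1) • ⊤ : Submodule B M) (I ^ k • ⊤ : Submodule B M)
      (Submodule.smul_mono_left (Ideal.pow_le_pow_right k.le_succ))
      (hproj _ (inc I M k) (proj I M k) (fun x hx => inc_mem I M k x hx) (fun f hf => proj_mem I M k hf) (proj_inc I M k))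
      ih

end Pieces

end Groth.FlatDescent.Trunc
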