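import Mathlib

/-!
# Uniform stabilisation of compatible families of ideals along powers of an ideal
-/

universe u

namespace Groth.FlatDescent.Trunc

/-- Compatible ideals `r k n ⊇ J^(n+1)`: finitely many `k` dominate all, uniformly in `n`. -/
theorem exists_bound {A : Type u} [CommRing A] [IsNoetherianRing A] (J : Ideal A) (r : ℕ → ℕ → Ideal A)
    (hlo : ∀ k n, J ^ (n + 1) ≤ r k n) (hhi : ∀ k n, r k n ≤ J)
    (hcompat : ∀ k n, r k n = r k (n + 1) ⊔ J ^ (n + 1)) :
    ∃ K, ∀ k n, r k n ≤ (Finset.range (K + 1)).sup fun j => r j n := by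
  let s : ℕ → ℕ → Ideal A := fun k n => (Finset.range (k + 1)).sup fun j => r j n
  have hle : ∀ k n, r k n ≤ s k n := fun k n =>
    Finset.le_sup (f := fun j => r j n) (Finset.self_mem_range_succ k)
  have hsmono : ∀ {k l : ℕ}, k ≤ l → ∀ n, s k n ≤ s l n := fun {k l} h n =>
    Finset.sup_mono fun x hx => Finset.mem_range.mpr (lt_of_lt_of_le (Finset.mem_range.mp hx) (by omega))
  have hslo : ∀ k n, J ^ (n + 1) ≤ s k n := fun k n => (hlo k n).trans (hle k n)
  have hshi : ∀ k n, s k n ≤ J := fun k n => Finset.sup_le fun j _ => hhi j n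
  have hscompat : ∀ k n, s k n = s k (n + 1) ⊔ J ^ (n + 1) := fun k n => by
    refine le_antisymm (Finset.sup_le fun j hj => ?_) (sup_le (Finset.sup_le fun j hj => ?_) (hslo k n))
    · rw [hcompat j n]
      exact sup_le_sup (Finset.le_sup (f := fun j => r j (n + 1)) hj) le_rfl
    · exact (le_sup_left.trans (hcompat j n).ge).trans (Finset.le_sup (f := fun j => r j n) hj)
  have hmul : ∀ k (j i : ℕ), J ^ j * s k i ≤ s k (i + j) := by
    intro k j i
    induction j with
    | zero => simp
    | succ j ih =>
      have h1 : J * s k (i + j) ≤ s k (i + j + 1) := by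
        rw [hscompat k (i + j), Ideal.mul_sup]
        refine sup_le Ideal.mul_le_right ?_
        rw [← pow_succ']
        exact hslo k (i + j + 1)
      calc J ^ (j + 1) * s k i = J * (J ^ j * s k i) := by rw [pow_succ', mul_assoc]
        _ ≤ J * s k (i + j) := Ideal.mul_mono_right ih
        _ ≤ s k (i + (j + 1)) := h1
  let L : ℕ →o Ideal (reesAlgebra J) :=
    { toFun := fun k =>
        { carrier := {f | ∀ i, (f : Polynomial A).coeff i ∈ s k i}
          add_mem' := fun {a b} ha hb i => by
            show ((a : Polynomial A) + b).coeff i ∈ s k i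
            rw [Polynomial.coeff_add]
            exact add_mem (ha i) (hb i)
          zero_mem' := fun i => by
            show (0 : Polynomial A).coeff i ∈ s k i
            rw [Polynomial.coeff_zero]
            exact zero_mem _
          smul_mem' := fun c f hf i => by
            show ((c : Polynomial A) * f).coeff i ∈ s k i
            rw [Polynomial.coeff_mul]
            refine sum_mem fun x hx => ?_
            have hxi : x.2 + x.1 = i := by rw [add_comm]; exact Finset.HasAntidiagonal.mem_antidiagonal.mp hx
            rw [← hxi]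
            exact hmul k x.1 x.2 (Ideal.mul_mem_mul (c.2 x.1) (hf x.2)) }
      monotone' := fun k l h f hf i => hsmono h i (hf i) }
  obtain ⟨K, hK⟩ := monotone_stabilizes_iff_noetherian.mpr (inferInstance : IsNoetherian (reesAlgebra J) (reesAlgebra J)) L
  refine ⟨K, fun k n => (hle k n).trans ?_⟩
  rcases le_total k K with h | h
  · exact hsmono h n
  induction n with
  | zero =>
    refine (hshi k 0).trans ?_
    have := hslo K 0
    rwa [zero_add, pow_one] at this
  | succ n ih =>
    intro x hx
    have h1 : x ∈ s K n := ih ((le_sup_left.trans (hscompat k n).ge) hx)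
    rw [hscompat K n] at h1
    obtain ⟨y, hy, z, hz, rfl⟩ := Submodule.mem_sup.mp h1
    refine add_mem hy ?_
    have hzk : z ∈ s k (n + 1) := by
      have := sub_mem hx (hsmono h (n + 1) hy)
      rwa [add_sub_cancel_left] at this
    let f : reesAlgebra J := ⟨Polynomial.monomial (n + 1) z, reesAlgebra.monomial_mem.mpr hz⟩
    have hf : f ∈ L k := fun i => by
      show (Polynomial.monomial (n + 1) z).coeff i ∈ s k i
      rw [Polynomial.coeff_monomial]
      split_ifs with hi
      · subst hi; exact hzk
      · exact zero_mem _
    rw [← hK k h] at hf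
    have := hf (n + 1)
    rwa [show (f : Polynomial A).coeff (n + 1) = z by simp [f]] at this

end Groth.FlatDescent.Trunc
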