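import Mathlib
import Groth.Agent.FlatDescent.Trunc.Krull
import Groth.Agent.FlatDescent.Trunc.Stable
import Groth.Agent.FlatDescent.NormallyFlat
import Groth.Agent.FlatDescent.Trunc.Projective
import Groth.Agent.S4853

/-!
# Finitely many truncations decide the flatness of all (EGA IV 11.2.9)

`exists_bound_good`: over a Noetherian base there is `K` such that for every algebra `A'`,
flatness of the truncations `k ≤ K` gives flatness of all.
-/

universe u

open TensorProduct MvPolynomial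

namespace Groth.FlatDescent.Trunc

variable {σ κ : Type} [Finite σ] [Finite κ] {A : Type u} [CommRing A] [IsNoetherianRing A]
  (J : Ideal (MvPolynomial σ A)) (N : Submodule (MvPolynomial σ A) (κ → MvPolynomial σ A))

/-- Flatness over a Noetherian ring is tested on Artinian local quotients of the localisations. -/
theorem flat_of_forall_local (L : Submodule (MvPolynomial σ A) (κ → MvPolynomial σ A))
    (h : ∀ (R : Type u) [CommRing R] [IsLocalRing R] [Algebra A R],
      IsNilpotent (IsLocalRing.maximalIdeal R) → Module.Flat R (R ⊗[A] ((κ → MvPolynomial σ A) ⧸ L))) :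
    Module.Flat A ((κ → MvPolynomial σ A) ⧸ L) := by
  refine flat_of_flatAt (P := MvPolynomial σ A) fun Q _ => flatAt_of_torVan L Q ?_
  set p := Q.comap (algebraMap A (MvPolynomial σ A)) with hp
  refine torVan_of_forall L p Q (p.map (algebraMap A (MvPolynomial σ A))) (Ideal.map_le_iff_le_comap.mpr le_rfl)
    fun n x hxL hx => ?_
  let Ap := Localization.AtPrime p
  let I : Ideal Ap := IsLocalRing.maximalIdeal Ap ^ (n + 1)
  have hI : I ≤ IsLocalRing.maximalIdeal Ap := Ideal.pow_le_self n.succ_ne_zero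
  let R := Ap ⧸ I
  haveI : Nontrivial R := Ideal.Quotient.nontrivial_iff.mpr fun htop =>
    (IsLocalRing.maximalIdeal.isMaximal Ap).ne_top (top_le_iff.mp (htop ▸ hI))
  haveI : IsLocalRing R := IsLocalRing.of_surjective' (Ideal.Quotient.mk I) Ideal.Quotient.mk_surjective
  have hmax : IsLocalRing.maximalIdeal R = (IsLocalRing.maximalIdeal Ap).map (Ideal.Quotient.mk I) := by
    refine le_antisymm (fun x hx => ?_) (Ideal.map_le_iff_le_comap.mpr fun x hx => ?_)
    · obtain ⟨y, rfl⟩ := Ideal.Quotient.mk_surjective x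
      exact Ideal.mem_map_of_mem _ fun hy => hx (hy.map _)
    · intro hu
      obtain ⟨z, hz⟩ := IsUnit.exists_right_inv hu
      obtain ⟨z, rfl⟩ := Ideal.Quotient.mk_surjective z
      rw [← map_mul, ← map_one (Ideal.Quotient.mk I), Ideal.Quotient.eq] at hz
      exact (IsLocalRing.maximalIdeal.isMaximal Ap).ne_top ((Ideal.eq_top_iff_one _).mpr (by
        have := sub_mem (Ideal.mul_mem_right z _ hx) (hI hz)
        rwa [sub_sub_cancel] at this))
  have hnil : IsNilpotent (IsLocalRing.maximalIdeal R) :=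
    ⟨n + 1, by rw [hmax, ← Ideal.map_pow, Ideal.map_quotient_self, Ideal.zero_eq_bot]⟩
  letI : Algebra A R := ((Ideal.Quotient.mk I).comp (algebraMap A Ap)).toAlgebra
  obtain ⟨e⟩ := baseNEquiv (R := R) L
  haveI : Module.Flat R ((κ → MvPolynomial σ R) ⧸ baseN (algebraMap A R) L) :=
    (Module.Flat.equiv_iff e).mpr (h R hnil)
  have h1 := mem_smul_of_flat (baseN (algebraMap A R) L) (p.map (algebraMap A R)) (mapF_mem_baseN hxL)
    (mapF_mem_smul_top le_rfl hx)
  rw [smul_baseN] at h1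
  have hsurj : ∀ r : R, ∃ s, s ∉ p ∧ ∃ a, algebraMap A R s * r = algebraMap A R a := by
    intro r
    obtain ⟨y, rfl⟩ := Ideal.Quotient.mk_surjective r
    obtain ⟨⟨a, s⟩, has⟩ := IsLocalization.surj p.primeCompl y
    exact ⟨s, s.2, a, by
      show Ideal.Quotient.mk I (algebraMap A Ap s) * Ideal.Quotient.mk I y = Ideal.Quotient.mk I (algebraMap A Ap a)
      rw [← map_mul, mul_comm, has]⟩
  have hker : ∀ a, algebraMap A R a = 0 → ∃ t, t ∉ p ∧ t * a ∈ p ^ (n + 1) := by
    intro a ha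
    have h2 : algebraMap A Ap a ∈ I := Ideal.Quotient.eq_zero_iff_mem.mp ha
    rw [show I = (p ^ (n + 1)).map (algebraMap A Ap) by rw [Ideal.map_pow, Localization.AtPrime.map_eq_maximalIdeal]] at h2
    obtain ⟨t, ht, htI⟩ := (IsLocalization.algebraMap_mem_map_algebraMap_iff p.primeCompl Ap _ a).mp h2
    exact ⟨t, ht, htI⟩
  obtain ⟨s, hs, hsx⟩ := exists_smul_mem_of_mapF_mem (algebraMap A R) p (p ^ (n + 1)) hsurj hker _ h1
  refine ⟨algebraMap A _ s, fun hsQ => hs (Ideal.mem_comap.mpr hsQ), ?_⟩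
  have hle : (p ^ (n + 1)).map (algebraMap A (MvPolynomial σ A)) • (⊤ : Submodule (MvPolynomial σ A) (κ → MvPolynomial σ A)) ≤
      p.map (algebraMap A (MvPolynomial σ A)) ^ n • ⊤ := by
    rw [Ideal.map_pow]
    exact Submodule.smul_mono_left (Ideal.pow_le_pow_right (by omega))
  exact sup_le_sup_left hle _ hsx

/-- The flattening ideals of one truncation modulo a power of the ideal of the stratum. -/
theorem exists_ideal_stage {A₁ : Type u} [CommRing A₁] [Algebra A A₁] (J₁ : Ideal A₁) (k n : ℕ)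
    (hproj : ∀ (C : Type u) [CommRing C] [Algebra A C] [Algebra A₁ C] [IsScalarTower A A₁ C],
      J₁.map (algebraMap A₁ C) = ⊥ → Module.Projective C (C ⊗[A] ((κ → MvPolynomial σ A) ⧸ truncN J N k))) :
    ∃ r : Ideal A₁, J₁ ^ (n + 1) ≤ r ∧ r ≤ J₁ ∧
      ∀ (C : Type u) [CommRing C] [Algebra A C] [Algebra A₁ C] [IsScalarTower A A₁ C],
        (J₁ ^ (n + 1)).map (algebraMap A₁ C) = ⊥ → (Good J N C k ↔ r.map (algebraMap A₁ C) = ⊥) := by
  classical
  let T := (κ → MvPolynomial σ A) ⧸ truncN J N k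
  let B := A₁ ⧸ J₁ ^ (n + 1)
  let Jb : Ideal B := J₁.map (Ideal.Quotient.mk (J₁ ^ (n + 1)))
  have hJb : IsNilpotent Jb := ⟨n + 1, by rw [← Ideal.map_pow, Ideal.map_quotient_self, Ideal.zero_eq_bot]⟩
  have hP : Module.Projective (B ⧸ Jb) ((B ⧸ Jb) ⊗[A] T) := by
    refine hproj (B ⧸ Jb) (eq_bot_iff.mpr (Ideal.map_le_iff_le_comap.mpr fun a ha => ?_))
    rw [Ideal.mem_comap, Ideal.mem_bot, IsScalarTower.algebraMap_apply A₁ B (B ⧸ Jb)]
    exact Ideal.Quotient.eq_zero_iff_mem.mpr (Ideal.mem_map_of_mem _ ha)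
  haveI : Module.Projective (B ⧸ Jb) ((B ⧸ Jb) ⊗[B] (B ⊗[A] T)) :=
    Module.Projective.of_equiv (AlgebraTensorModule.cancelBaseChange A B (B ⧸ Jb) (B ⧸ Jb) T).symm
  obtain ⟨ι, hι⟩ := exists_free_prod (R := B ⧸ Jb) ((B ⧸ Jb) ⊗[B] (B ⊗[A] T))
  let X := (B ⊗[A] T) × (ι →₀ B)
  have eC : ∀ (C : Type u) [CommRing C] [Algebra B C],
      Nonempty ((C ⊗[B] X) ≃ₗ[C] (C ⊗[B] (B ⊗[A] T)) × (ι →₀ C)) := fun C _ _ =>
    ⟨(TensorProduct.prodRight B C C (B ⊗[A] T) (ι →₀ B)).trans
      ((LinearEquiv.refl C _).prodCongr (TensorProduct.finsuppScalarRight B C C ι))⟩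
  obtain ⟨e₀⟩ := eC (B ⧸ Jb)
  have hfree : Module.Free (B ⧸ Jb) ((B ⧸ Jb) ⊗[B] X) := Module.Free.of_equiv e₀.symm
  obtain ⟨R₀, hleast, -, huniv⟩ := Groth.Agent.S4853.result X Jb hJb hfree
  refine ⟨R₀.comap (Ideal.Quotient.mk _), fun a ha => ?_, fun a ha => ?_, fun C _ _ _ _ hC => ?_⟩
  · rw [Ideal.mem_comap, Ideal.Quotient.eq_zero_iff_mem.mpr ha]
    exact zero_mem _
  · have h1 : Ideal.Quotient.mk (J₁ ^ (n + 1)) a ∈ Jb := hleast.2 hfree ha
    rw [← Ideal.mem_comap, Ideal.comap_map_quotientMk] at h1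
    exact (sup_le (Ideal.pow_le_self n.succ_ne_zero) le_rfl : J₁ ^ (n + 1) ⊔ J₁ ≤ J₁) h1
  · letI : Algebra B C := (Ideal.Quotient.lift (J₁ ^ (n + 1)) (algebraMap A₁ C) fun a ha =>
      (Ideal.map_eq_bot_iff_le_ker _).mp hC ha).toAlgebra
    haveI : IsScalarTower A₁ B C := IsScalarTower.of_algebraMap_eq fun _ => rfl
    haveI : IsScalarTower A B C := IsScalarTower.of_algebraMap_eq fun a => by
      rw [IsScalarTower.algebraMap_apply A A₁ C, IsScalarTower.algebraMap_apply A A₁ B]
      exact IsScalarTower.algebraMap_apply A₁ B C _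
    rw [show (R₀.comap (Ideal.Quotient.mk (J₁ ^ (n + 1)))).map (algebraMap A₁ C) = R₀.map (algebraMap B C) by
      rw [IsScalarTower.algebraMap_eq A₁ B C, ← Ideal.map_map]
      exact congrArg (Ideal.map (algebraMap B C)) (Ideal.map_comap_of_surjective _ Ideal.Quotient.mk_surjective R₀)]
    rw [← (huniv C).2]
    obtain ⟨eX⟩ := eC C
    rw [Module.Flat.equiv_iff eX, Good,
      ← Module.Flat.equiv_iff (AlgebraTensorModule.cancelBaseChange A B C C T)]
    exact ⟨fun _ => NormallyFlat.flat_prod _ _, fun _ =>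
      Module.Flat.of_retract (LinearMap.inl C (C ⊗[B] (B ⊗[A] T)) (ι →₀ C)) (LinearMap.fst C _ _) rfl⟩

/-- The stratum of a prime. -/
theorem exists_bound_stratum (p : Ideal A) [p.IsPrime] :
    ∃ (h : A) (_ : h ∉ p) (K : ℕ), ∀ (R : Type u) [CommRing R] [IsLocalRing R] [Algebra A R],
      IsNilpotent (IsLocalRing.maximalIdeal R) → p ≤ (IsLocalRing.maximalIdeal R).comap (algebraMap A R) →
        IsUnit (algebraMap A R h) → (∀ k ≤ K, Good J N R k) → ∀ k, Good J N R k := by
  classical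
  let D := A ⧸ p
  let JD := J.map (map (algebraMap A D))
  let ND := baseN (algebraMap A D) N
  obtain ⟨hD, hD0, hproj⟩ := exists_projective_truncations (D := D) JD ((κ → MvPolynomial σ D) ⧸ ND)
  obtain ⟨h, rfl⟩ := Ideal.Quotient.mk_surjective hD
  have hh : h ∉ p := fun hc => hD0 (Ideal.Quotient.eq_zero_iff_mem.mpr hc)
  let A₁ := Localization.Away h
  let J₁ : Ideal A₁ := p.map (algebraMap A A₁)
  have hprojC : ∀ (k : ℕ) (C : Type u) [CommRing C] [Algebra A C] [Algebra A₁ C] [IsScalarTower A A₁ C],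
      J₁.map (algebraMap A₁ C) = ⊥ → Module.Projective C (C ⊗[A] ((κ → MvPolynomial σ A) ⧸ truncN J N k)) := by
    intro k C _ _ _ _ hC
    let T := (κ → MvPolynomial σ A) ⧸ truncN J N k
    let Dh := Localization.Away (Ideal.Quotient.mk p h)
    let ψ : D →+* C := Ideal.Quotient.lift p (algebraMap A C) fun a ha => by
      rw [IsScalarTower.algebraMap_apply A A₁ C]
      exact (Ideal.map_eq_bot_iff_le_ker _).mp hC (Ideal.mem_map_of_mem _ ha)
    have hu : IsUnit (ψ (Ideal.Quotient.mk p h)) := by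
      show IsUnit (algebraMap A C h)
      rw [IsScalarTower.algebraMap_apply A A₁ C]
      exact (IsLocalization.Away.algebraMap_isUnit h).map _
    letI : Algebra D C := ψ.toAlgebra
    haveI : IsScalarTower A D C := IsScalarTower.of_algebraMap_eq fun _ => rfl
    letI : Algebra Dh C := (IsLocalization.Away.lift (g := ψ) (Ideal.Quotient.mk p h) hu).toAlgebra
    haveI : IsScalarTower D Dh C := IsScalarTower.of_algebraMap_eq fun d => (IsLocalization.Away.lift_eq _ hu d).symm
    obtain ⟨e⟩ := nonempty_truncEquiv (A' := D) J N k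
    have e' : (((κ → MvPolynomial σ D) ⧸ ND) ⧸ (JD ^ k • ⊤ : Submodule (MvPolynomial σ D) ((κ → MvPolynomial σ D) ⧸ ND))) ≃ₗ[D] D ⊗[A] T := by
      refine ((Submodule.quotEquivOfEq _ (Submodule.map ND.mkQ (JD ^ k • ⊤)) ?_).trans
        (Submodule.quotientQuotientEquivQuotientSup ND (JD ^ k • ⊤))).restrictScalars D ≪≫ₗ e
      rw [Submodule.map_smul'', Submodule.map_top, Submodule.range_mkQ]
    haveI : Module.Projective Dh (Dh ⊗[D] (D ⊗[A] T)) :=
      haveI := hproj k
      Module.Projective.of_equiv (AlgebraTensorModule.congr (LinearEquiv.refl Dh Dh) e')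
    exact Module.Projective.of_equiv
      ((AlgebraTensorModule.cancelBaseChange D Dh C C (D ⊗[A] T)) ≪≫ₗ AlgebraTensorModule.cancelBaseChange A D C C T)
  choose r hr1 hr2 hr3 using fun k n => exists_ideal_stage J N J₁ k n (hprojC k)
  have hcompat : ∀ k n, r k n = r k (n + 1) ⊔ J₁ ^ (n + 1) := by
    intro k n
    refine le_antisymm ?_ (sup_le ?_ (hr1 k n))
    · let I := r k (n + 1) ⊔ J₁ ^ (n + 1)
      let C := A₁ ⧸ I
      have hCn : (J₁ ^ (n + 1)).map (algebraMap A₁ C) = ⊥ :=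
        Ideal.map_mk_eq_bot_of_le le_sup_right
      have hCn' : (J₁ ^ (n + 1 + 1)).map (algebraMap A₁ C) = ⊥ :=
        Ideal.map_mk_eq_bot_of_le ((Ideal.pow_le_pow_right (n + 1).le_succ).trans le_sup_right)
      have hgood : Good J N C k := (hr3 k (n + 1) C hCn').mpr (Ideal.map_mk_eq_bot_of_le le_sup_left)
      intro a ha
      exact Ideal.Quotient.eq_zero_iff_mem.mp ((Ideal.map_eq_bot_iff_le_ker _).mp ((hr3 k n C hCn).mp hgood) ha)
    · let C := A₁ ⧸ r k n
      have hCn : (J₁ ^ (n + 1)).map (algebraMap A₁ C) = ⊥ := Ideal.map_mk_eq_bot_of_le (hr1 k n)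
      have hCn' : (J₁ ^ (n + 1 + 1)).map (algebraMap A₁ C) = ⊥ :=
        Ideal.map_mk_eq_bot_of_le ((Ideal.pow_le_pow_right (n + 1).le_succ).trans (hr1 k n))
      have hgood : Good J N C k := (hr3 k n C hCn).mpr (Ideal.map_mk_eq_bot_of_le le_rfl)
      intro a ha
      exact Ideal.Quotient.eq_zero_iff_mem.mp ((Ideal.map_eq_bot_iff_le_ker _).mp ((hr3 k (n + 1) C hCn').mp hgood) ha)
  haveI : IsNoetherianRing A₁ := IsLocalization.isNoetherianRing (Submonoid.powers h) A₁ inferInstance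
  obtain ⟨K, hK⟩ := exists_bound J₁ r hr1 hr2 hcompat
  refine ⟨h, hh, K, fun R _ _ _ hnil hle hu hgood k => ?_⟩
  letI : Algebra A₁ R := (IsLocalization.Away.lift (g := algebraMap A R) h hu).toAlgebra
  haveI : IsScalarTower A A₁ R := IsScalarTower.of_algebraMap_eq fun d => (IsLocalization.Away.lift_eq _ hu d).symm
  obtain ⟨n, hn⟩ := hnil
  have hJn : (J₁ ^ (n + 1)).map (algebraMap A₁ R) = ⊥ := by
    rw [Ideal.map_pow, show J₁.map (algebraMap A₁ R) = p.map (algebraMap A R) by
      rw [IsScalarTower.algebraMap_eq A A₁ R, ← Ideal.map_map], eq_bot_iff]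
    calc p.map (algebraMap A R) ^ (n + 1) ≤ IsLocalRing.maximalIdeal R ^ n :=
          (Ideal.pow_le_pow_right n.le_succ).trans (Ideal.pow_right_mono (Ideal.map_le_iff_le_comap.mpr hle) n)
      _ = ⊥ := hn
  refine (hr3 k n R hJn).mpr (eq_bot_iff.mpr ?_)
  refine (Ideal.map_mono (hK k n)).trans (Ideal.map_le_iff_le_comap.mpr (Finset.sup_le fun j hj => ?_))
  exact Ideal.map_le_iff_le_comap.mp
    ((hr3 j n R hJn).mp (hgood j (Nat.le_of_lt_succ (Finset.mem_range.mp hj)))).le

/-- Finitely many truncations decide over local algebras with nilpotent maximal ideal. -/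
theorem exists_bound_local (a : Ideal A) :
    ∃ K : ℕ, ∀ (R : Type u) [CommRing R] [IsLocalRing R] [Algebra A R], IsNilpotent (IsLocalRing.maximalIdeal R) →
      a ≤ (IsLocalRing.maximalIdeal R).comap (algebraMap A R) → (∀ k ≤ K, Good J N R k) → ∀ k, Good J N R k := by
  induction a using WellFoundedGT.induction with
  | ind a ih =>
  by_cases hp : a.IsPrime
  · obtain ⟨h, hh, K₁, h1⟩ := exists_bound_stratum J N a
    obtain ⟨K₂, h2⟩ := ih (a ⊔ Ideal.span {h}) (lt_of_le_of_ne le_sup_left fun he => hh (by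
      rw [he]; exact Submodule.mem_sup_right (Ideal.mem_span_singleton_self h)))
    refine ⟨max K₁ K₂, fun R _ _ _ hnil hle hgood => ?_⟩
    by_cases hu : IsUnit (algebraMap A R h)
    · exact h1 R hnil hle hu fun k hk => hgood k (hk.trans (le_max_left _ _))
    · exact h2 R hnil (sup_le hle (by rwa [Ideal.span_le, Set.singleton_subset_iff])) fun k hk =>
        hgood k (hk.trans (le_max_right _ _))
  · rcases Ideal.not_isPrime_iff.mp hp with rfl | ⟨x, hx, y, hy, hxy⟩
    · exact ⟨0, fun R _ _ _ _ hle _ => absurd (top_le_iff.mp hle) (Ideal.comap_ne_top _ (IsLocalRing.maximalIdeal.isMaximal R).ne_top)⟩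
    have hlt : ∀ z, z ∉ a → a < a ⊔ Ideal.span {z} := fun z hz => lt_of_le_of_ne le_sup_left fun he => hz (by
      rw [he]; exact Submodule.mem_sup_right (Ideal.mem_span_singleton_self z))
    obtain ⟨K₁, h1⟩ := ih _ (hlt x hx)
    obtain ⟨K₂, h2⟩ := ih _ (hlt y hy)
    refine ⟨max K₁ K₂, fun R _ _ _ hnil hle hgood => ?_⟩
    haveI hm : ((IsLocalRing.maximalIdeal R).comap (algebraMap A R)).IsPrime :=
      Ideal.IsPrime.comap _ (hK := inferInstance)
    rcases hm.mem_or_mem (hle hxy) with hxm | hym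
    · exact h1 R hnil (sup_le hle (by rwa [Ideal.span_le, Set.singleton_subset_iff])) fun k hk =>
        hgood k (hk.trans (le_max_left _ _))
    · exact h2 R hnil (sup_le hle (by rwa [Ideal.span_le, Set.singleton_subset_iff])) fun k hk =>
        hgood k (hk.trans (le_max_right _ _))

/-- Finitely many truncations decide over Noetherian algebras. -/
theorem exists_bound_noetherian :
    ∃ K : ℕ, ∀ (A' : Type u) [CommRing A'] [IsNoetherianRing A'] [Algebra A A'],
      (∀ k ≤ K, Good J N A' k) → ∀ k, Good J N A' k := by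
  obtain ⟨K, hK⟩ := exists_bound_local J N ⊥
  refine ⟨K, fun A' _ _ _ hgood k => (good_iff J N k).mpr (flat_of_forall_local _ fun R _ _ _ hnil => ?_)⟩
  letI : Algebra A R := ((algebraMap A' R).comp (algebraMap A A')).toAlgebra
  haveI : IsScalarTower A A' R := IsScalarTower.of_algebraMap_eq fun _ => rfl
  have h1 : Good J N R k := hK R hnil bot_le (fun j hj => (hgood j hj).baseChange) k
  exact (good_tower J N k).mpr h1

end Groth.FlatDescent.Trunc
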