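import Mathlib
import Groth.Agent.FlatDescent.Trunc.Main

/-!
# Truncations over arbitrary algebras; Noetherian models
-/

universe u

open TensorProduct MvPolynomial

namespace Groth.FlatDescent.Trunc

theorem isDirectedColimit_fgSubalgebra (A₁ A : Type u) [CommRing A₁] [CommRing A] [Algebra A₁ A] :
    FlatCA.IsDirectedColimitRing (fun S : {S : Subalgebra A₁ A // S.FG} => ↥S.1)
      (fun _ _ h => (Subalgebra.inclusion h).toRingHom) A := by
  classical
  refine ⟨⟨fun S T => ⟨⟨S.1 ⊔ T.1, S.2.sup T.2⟩, (le_sup_left : S.1 ≤ S.1 ⊔ T.1), (le_sup_right : T.1 ≤ S.1 ⊔ T.1)⟩⟩, ⟨⟨⊥, Subalgebra.fg_bot⟩⟩,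
    fun _ => rfl, fun _ _ _ _ _ => rfl, fun _ _ _ => rfl, fun a => ?_, fun i x hx => ⟨i, le_rfl, ?_⟩⟩
  · exact ⟨⟨Algebra.adjoin A₁ {a}, by rw [← Finset.coe_singleton]; exact Subalgebra.fg_adjoin_finset _⟩,
      ⟨a, Algebra.subset_adjoin rfl⟩, rfl⟩
  · exact Subtype.ext hx

variable {σ κ : Type} [Finite σ] [Finite κ]

theorem fg_truncN {A : Type u} [CommRing A] {J : Ideal (MvPolynomial σ A)} (hJ : J.FG)
    {N : Submodule (MvPolynomial σ A) (κ → MvPolynomial σ A)} (hN : N.FG) (k : ℕ) : (truncN J N k).FG :=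
  hN.sup (Submodule.FG.smul (Submodule.FG.pow hJ k) Module.Finite.fg_top)

/-- Finitely many good truncations descend to a stage. -/
theorem exists_stage_good {A₀ : Type u} [CommRing A₀] {J : Ideal (MvPolynomial σ A₀)} (hJ : J.FG)
    {N : Submodule (MvPolynomial σ A₀) (κ → MvPolynomial σ A₀)} (hN : N.FG)
    {ι : Type u} [Preorder ι] {G : ι → Type u} [∀ i, CommRing (G i)] [∀ i, Algebra A₀ (G i)]
    (g : ∀ i j, i ≤ j → G i →ₐ[A₀] G j) {A : Type u} [CommRing A] [Algebra A₀ A] [∀ i, Algebra (G i) A]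
    [∀ i, IsScalarTower A₀ (G i) A]
    (hc : FlatCA.IsDirectedColimitRing G (fun i j h => (g i j h).toRingHom) A) (K : ℕ)
    (h : ∀ k ≤ K, Good J N A k) : ∃ i, ∀ k ≤ K, Good J N (G i) k := by
  have stage : ∀ k ≤ K, ∃ i, Good J N (G i) k := fun k hk => by
    haveI : Module.FinitePresentation (MvPolynomial σ A₀) ((κ → MvPolynomial σ A₀) ⧸ truncN J N k) :=
      Module.finitePresentation_of_surjective _ (truncN J N k).mkQ_surjective
        (by rw [Submodule.ker_mkQ]; exact fg_truncN hJ hN k)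
    exact (flat_iff_exists_stage g hc (B₀ := MvPolynomial σ A₀) _).mp (h k hk)
  have push : ∀ (i j : ι), i ≤ j → ∀ k, Good J N (G i) k → Good J N (G j) k := fun i j hij k hik => by
    letI : Algebra (G i) (G j) := (g i j hij).toRingHom.toAlgebra
    haveI : IsScalarTower A₀ (G i) (G j) := IsScalarTower.of_algebraMap_eq fun a => ((g i j hij).commutes a).symm
    exact hik.baseChange
  clear h
  induction K with
  | zero =>
    obtain ⟨i, hi⟩ := stage 0 le_rfl
    exact ⟨i, fun k hk => by obtain rfl := Nat.le_zero.mp hk; exact hi⟩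
  | succ K ih =>
    obtain ⟨i, hi⟩ := ih fun k hk => stage k (hk.trans K.le_succ)
    obtain ⟨j, hj⟩ := stage (K + 1) le_rfl
    obtain ⟨l, hil, hjl⟩ := hc.1.directed i j
    refine ⟨l, fun k hk => ?_⟩
    rcases Nat.le_succ_iff.mp hk with h | rfl
    · exact push i l hil k (hi k h)
    · exact push j l hjl _ hj

/-- **Finitely many truncations decide**, arbitrary algebras over a Noetherian base. -/
theorem exists_bound_good {A₁ : Type u} [CommRing A₁] [IsNoetherianRing A₁] (J : Ideal (MvPolynomial σ A₁))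
    (N : Submodule (MvPolynomial σ A₁) (κ → MvPolynomial σ A₁)) :
    ∃ K : ℕ, ∀ (A : Type u) [CommRing A] [Algebra A₁ A], (∀ k ≤ K, Good J N A k) →
      (∀ k, Good J N A k) ∧ ∃ S : Subalgebra A₁ A, S.FG ∧ ∀ k, Good J N S k := by
  obtain ⟨K, hK⟩ := exists_bound_noetherian J N
  refine ⟨K, fun A _ _ h => ?_⟩
  obtain ⟨⟨S, hS⟩, hi⟩ := exists_stage_good (IsNoetherian.noetherian J) (IsNoetherian.noetherian N)
    (G := fun S : {S : Subalgebra A₁ A // S.FG} => ↥S.1) (fun _ _ h => Subalgebra.inclusion h)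
    (isDirectedColimit_fgSubalgebra A₁ A) K h
  haveI : Algebra.FiniteType A₁ S := ⟨S.fg_top.mpr hS⟩
  haveI : IsNoetherianRing S := Algebra.FiniteType.isNoetherianRing A₁ S
  exact ⟨fun k => (hK S hi k).baseChange, S, hS, hK S hi⟩

/-- A Noetherian model of a module and an ideal over a finitely presented algebra. -/
structure Model {A₀ : Type u} [CommRing A₀] {B₀ : Type u} [CommRing B₀] [Algebra A₀ B₀] (J₀ : Ideal B₀)
    (M₀ : Type u) [AddCommGroup M₀] [Module B₀ M₀] [Module A₀ M₀] [IsScalarTower A₀ B₀ M₀] where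
  /-- number of variables -/
  n : ℕ
  /-- number of generators -/
  m : ℕ
  /-- the presentation of the algebra -/
  π : MvPolynomial (Fin n) A₀ →ₐ[A₀] B₀
  π_surjective : Function.Surjective π
  /-- the relations -/
  N : Submodule (MvPolynomial (Fin n) A₀) (Fin m → MvPolynomial (Fin n) A₀)
  /-- the presentation of the module -/
  f : (Fin m → MvPolynomial (Fin n) A₀) →+ M₀
  f_surjective : Function.Surjective f
  f_smul : ∀ (r : MvPolynomial (Fin n) A₀) x, f (r • x) = π r • f x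
  f_eq_zero : ∀ x, f x = 0 ↔ x ∈ N
  /-- the Noetherian base -/
  A₁ : Subalgebra ℤ A₀
  fg_A₁ : A₁.FG
  /-- the ideal over the base -/
  J₁ : Ideal (MvPolynomial (Fin n) A₁)
  /-- the relations over the base -/
  N₁ : Submodule (MvPolynomial (Fin n) A₁) (Fin m → MvPolynomial (Fin n) A₁)
  baseN_N₁ : baseN (algebraMap A₁ A₀) N₁ = N
  map_J₁ : (J₁.map (map (algebraMap A₁ A₀))).map π.toRingHom = J₀
  equiv : ∀ k, Nonempty ((A₀ ⊗[A₁] ((Fin m → MvPolynomial (Fin n) A₁) ⧸ truncN J₁ N₁ k)) ≃ₗ[A₀]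
    M₀ ⧸ ((J₀ ^ k • (⊤ : Submodule B₀ M₀)).restrictScalars A₀))

theorem exists_model {A₀ : Type u} [CommRing A₀] {B₀ : Type u} [CommRing B₀] [Algebra A₀ B₀]
    [Algebra.FinitePresentation A₀ B₀] (J₀ : Ideal B₀) (hJ₀ : J₀.FG) (M₀ : Type u) [AddCommGroup M₀]
    [Module B₀ M₀] [Module A₀ M₀] [IsScalarTower A₀ B₀ M₀] [Module.FinitePresentation B₀ M₀] :
    Nonempty (Model (A₀ := A₀) J₀ M₀) := by
  classical
  obtain ⟨n, m, π, hπ, N, hN, f, hf, hsmul, hker⟩ := exists_presentation A₀ B₀ M₀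
  let P := MvPolynomial (Fin n) A₀
  obtain ⟨A', hA', N', hN', -⟩ := exists_finite_type_model hN
  obtain ⟨T, hT⟩ := hJ₀
  choose lift hlift using hπ
  let C : Finset A₀ := T.biUnion fun t => (lift t).coeffs
  let A₁ := A' ⊔ Algebra.adjoin ℤ (C : Set A₀)
  have hA₁ : A₁.FG := hA'.sup (Subalgebra.fg_adjoin_finset C)
  have hle : A' ≤ A₁ := le_sup_left
  have hlift' : ∀ t : T, ∃ l : MvPolynomial (Fin n) A₁, map A₁.val.toRingHom l = lift t := fun t =>
    mem_range_map_iff_coeffs_subset.mpr fun a ha => ⟨⟨a, (le_sup_right : _ ≤ A₁) (Algebra.subset_adjoin (by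
      simp only [C, Finset.coe_biUnion, Set.mem_iUnion, Finset.mem_coe]
      exact ⟨t, t.2, ha⟩))⟩, rfl⟩
  choose l hl using hlift'
  let J₁ : Ideal (MvPolynomial (Fin n) A₁) := Ideal.span (Set.range l)
  let N₁ := baseN (Subalgebra.inclusion hle).toRingHom N'
  have hN₁ : baseN (algebraMap A₁ A₀) N₁ = N := by
    show baseN A₁.val.toRingHom (baseN _ N') = N
    rw [baseN_baseN, val_incl hle, hN']
  have hJ₁ : (J₁.map (map (algebraMap A₁ A₀))).map π.toRingHom = J₀ := by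
    rw [Ideal.map_map, Ideal.map_span, ← hT]
    congr 1
    ext b
    constructor
    · rintro ⟨_, ⟨t, rfl⟩, rfl⟩
      show π (map A₁.val.toRingHom (l t)) ∈ (T : Set B₀)
      rw [hl, hlift]
      exact t.2
    · intro hb
      exact ⟨l ⟨b, hb⟩, ⟨_, rfl⟩, (congrArg π (hl ⟨b, hb⟩)).trans (hlift b)⟩
  refine ⟨⟨n, m, π, fun b => ⟨lift b, hlift b⟩, N, f, hf, hsmul, hker, A₁, hA₁, J₁, N₁, hN₁, hJ₁, fun k => ?_⟩⟩
  obtain ⟨e⟩ := nonempty_truncEquiv (A' := A₀) J₁ N₁ k
  letI : Algebra P B₀ := π.toRingHom.toAlgebra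
  letI : Module P M₀ := Module.compHom M₀ π.toRingHom
  haveI : IsScalarTower P B₀ M₀ := IsScalarTower.of_algebraMap_smul fun _ _ => rfl
  haveI : IsScalarTower A₀ P M₀ := IsScalarTower.of_algebraMap_smul fun r x => by
    show π (algebraMap A₀ P r) • x = r • x
    rw [π.commutes, algebraMap_smul]
  let fP : (Fin m → P) →ₗ[P] M₀ := { f with map_smul' := hsmul }
  let J' : Ideal P := J₁.map (map (algebraMap A₁ A₀))
  have h1 : (truncN J' N k).map fP = (J₀ ^ k • (⊤ : Submodule B₀ M₀)).restrictScalars P := by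
    have h2 : N.map fP = ⊥ := by
      rw [eq_bot_iff]
      rintro _ ⟨x, hx, rfl⟩
      exact (hker x).mpr hx
    have hJ' : J'.map (algebraMap P B₀) = J₀ := hJ₁
    rw [truncN, Submodule.map_sup, h2, bot_sup_eq, Submodule.map_smul'', Submodule.map_top,
      LinearMap.range_eq_top.mpr hf, ← hJ', ← Ideal.map_pow (algebraMap P B₀) J' k, ← Submodule.restrictScalars_top P B₀ M₀]
    exact (Ideal.smul_restrictScalars (J' ^ k) (⊤ : Submodule B₀ M₀)).symm
  have h3 : truncN J' N k = ((J₀ ^ k • (⊤ : Submodule B₀ M₀)).restrictScalars P).comap fP := by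
    rw [← h1, Submodule.comap_map_eq, sup_eq_left.mpr]
    intro x hx
    exact Submodule.mem_sup_left ((hker x).mp hx)
  let L := (J₀ ^ k • (⊤ : Submodule B₀ M₀)).restrictScalars A₀
  let gA : (Fin m → P) →ₗ[A₀] M₀ ⧸ L := L.mkQ.comp (fP.restrictScalars A₀)
  have hkerg : LinearMap.ker gA = (truncN J' N k).restrictScalars A₀ := by
    ext x
    rw [LinearMap.mem_ker, h3]
    exact Submodule.Quotient.mk_eq_zero L
  rw [hN₁] at e
  exact ⟨e.symm ≪≫ₗ (Submodule.Quotient.restrictScalarsEquiv A₀ _).symm ≪≫ₗ Submodule.quotEquivOfEq _ _ hkerg.symm ≪≫ₗ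
    gA.quotKerEquivOfSurjective (L.mkQ_surjective.comp hf)⟩

end Groth.FlatDescent.Trunc
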