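import Mathlib
import Groth.Agent.FlatDescent.Trunc.Descent

/-!
# Flat pieces give flat truncations; pieces commute with base change
-/

universe u

open TensorProduct

namespace Groth.FlatDescent.Trunc

/-- Extensions of flat modules are flat. -/
theorem flat_of_exact {A X Y Z : Type u} [CommRing A] [AddCommGroup X] [Module A X] [AddCommGroup Y] [Module A Y]
    [AddCommGroup Z] [Module A Z] (f : X →ₗ[A] Y) (g : Y →ₗ[A] Z) (hf : Function.Injective f)
    (hfg : Function.Exact f g) (hg : Function.Surjective g) [Module.Flat A X] [Module.Flat A Z] : Module.Flat A Y := by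
  rw [Module.Flat.iff_rTensor_injective']
  intro I
  rw [injective_iff_map_eq_zero]
  intro x hx
  have h1 : I.subtype.rTensor Z (g.lTensor I x) = 0 := by
    rw [← LinearMap.comp_apply, LinearMap.rTensor_comp_lTensor, ← LinearMap.lTensor_comp_rTensor, LinearMap.comp_apply,
      hx, map_zero]
  have h2 : g.lTensor I x = 0 :=
    Module.Flat.rTensor_preserves_injective_linearMap (M := Z) I.subtype Subtype.val_injective
      (h1.trans (map_zero _).symm)
  obtain ⟨y, rfl⟩ := (lTensor_exact I hfg hg x).mp h2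
  rw [← LinearMap.comp_apply, LinearMap.rTensor_comp_lTensor, ← LinearMap.lTensor_comp_rTensor,
    LinearMap.comp_apply] at hx
  have h3 : Function.Injective (f.lTensor A) := by
    intro a b hab
    refine (TensorProduct.lid A X).injective (hf ?_)
    have h := congrArg (TensorProduct.lid A Y) hab
    have key : ∀ z, TensorProduct.lid A Y (f.lTensor A z) = f (TensorProduct.lid A X z) := by
      intro z
      induction z with
      | zero => simp
      | tmul r v => simp
      | add u v hu hv => simp [hu, hv]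
    rwa [key, key] at h
  rw [Module.Flat.rTensor_preserves_injective_linearMap (M := X) I.subtype Subtype.val_injective
    ((h3 (hx.trans (map_zero _).symm)).trans (map_zero _).symm), map_zero]

section Seq

variable {A B : Type u} [CommRing A] [CommRing B] [Algebra A B] (J : Ideal B) (M : Type u) [AddCommGroup M]
  [Module B M] [Module A M] [IsScalarTower A B M]

/-- The inclusion `J^k M / J^{k+1} M → M / J^{k+1} M`. -/
noncomputable def pieceIncl (k : ℕ) : Piece J M k →ₗ[B] M ⧸ (J ^ (k + 1) • ⊤ : Submodule B M) :=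
  Submodule.mapQ _ _ (J ^ k • (⊤ : Submodule B M)).subtype fun _ hx => hx

/-- The projection `M / J^{k+1} M → M / J^k M`. -/
noncomputable def truncProj (k : ℕ) : (M ⧸ (J ^ (k + 1) • ⊤ : Submodule B M)) →ₗ[B] M ⧸ (J ^ k • ⊤ : Submodule B M) :=
  Submodule.factor (Submodule.smul_mono_left (Ideal.pow_le_pow_right k.le_succ))

theorem pieceIncl_injective (k : ℕ) : Function.Injective (pieceIncl J M k) := by
  rw [injective_iff_map_eq_zero]
  intro t ht
  obtain ⟨x, rfl⟩ := Submodule.Quotient.mk_surjective _ t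
  refine (Submodule.Quotient.mk_eq_zero _).mpr ?_
  exact (Submodule.Quotient.mk_eq_zero (J ^ (k + 1) • ⊤ : Submodule B M)).mp ht

theorem exact_pieceIncl_truncProj (k : ℕ) : Function.Exact (pieceIncl J M k) (truncProj J M k) := by
  intro t
  obtain ⟨x, rfl⟩ := Submodule.Quotient.mk_surjective _ t
  constructor
  · intro hx
    exact ⟨Submodule.Quotient.mk ⟨x, (Submodule.Quotient.mk_eq_zero _).mp hx⟩, rfl⟩
  · rintro ⟨u, hu⟩
    obtain ⟨y, rfl⟩ := Submodule.Quotient.mk_surjective _ u
    rw [← hu]
    exact (Submodule.Quotient.mk_eq_zero _).mpr y.2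

omit [Module A M] [IsScalarTower A B M] in
/-- One step. -/
theorem flat_step {T : Type u} [AddCommGroup T] [Module B T] [Module A T] [IsScalarTower A B T] (P' P : Submodule B T)
    (hle : P' ≤ P) [Module.Flat A (↥P ⧸ Submodule.comap P.subtype P')] [Module.Flat A (T ⧸ P)] :
    Module.Flat A (T ⧸ P') := by
  let f₀ : (↥P ⧸ Submodule.comap P.subtype P') →ₗ[B] T ⧸ P' := Submodule.mapQ _ _ P.subtype fun x hx => hx
  let g₀ : (T ⧸ P') →ₗ[B] T ⧸ P := Submodule.factor hle
  refine flat_of_exact (f₀.restrictScalars A) (g₀.restrictScalars A) ?_ ?_ (Submodule.factor_surjective hle)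
  · show Function.Injective f₀
    rw [injective_iff_map_eq_zero]
    intro t ht
    obtain ⟨x, rfl⟩ := Submodule.Quotient.mk_surjective _ t
    refine (Submodule.Quotient.mk_eq_zero _).mpr ?_
    exact (Submodule.Quotient.mk_eq_zero P').mp ht
  · intro t
    obtain ⟨x, rfl⟩ := Submodule.Quotient.mk_surjective _ t
    constructor
    · intro hx
      exact ⟨Submodule.Quotient.mk ⟨x, (Submodule.Quotient.mk_eq_zero _).mp hx⟩, rfl⟩
    · rintro ⟨u, hu⟩
      obtain ⟨y, rfl⟩ := Submodule.Quotient.mk_surjective _ u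
      rw [← hu]
      exact (Submodule.Quotient.mk_eq_zero _).mpr y.2

/-- Flat pieces give flat truncations. -/
theorem flat_quotient_of_flat_pieces (h : ∀ k, Module.Flat A (Piece J M k)) (k : ℕ) :
    Module.Flat A (M ⧸ (J ^ k • (⊤ : Submodule B M))) := by
  induction k with
  | zero =>
    haveI : Subsingleton (M ⧸ (J ^ 0 • ⊤ : Submodule B M)) := Submodule.Quotient.subsingleton_iff.mpr (by simp)
    infer_instance
  | succ k ih =>
    haveI := h k
    exact flat_step (J ^ (k + 1) • ⊤ : Submodule B M) (J ^ k • ⊤ : Submodule B M)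
      (Submodule.smul_mono_left (Ideal.pow_le_pow_right k.le_succ))

end Seq

/-- Three-term comparison after a base change. -/
theorem bijective_liftBaseChange_of_rows {S A : Type u} [CommRing S] [CommRing A] [Algebra S A]
    {X' Y' Z' X Y Z : Type u} [AddCommGroup X'] [Module S X'] [AddCommGroup Y'] [Module S Y'] [AddCommGroup Z']
    [Module S Z'] [Module.Flat S Z'] [AddCommGroup X] [Module S X] [Module A X] [IsScalarTower S A X]
    [AddCommGroup Y] [Module S Y] [Module A Y] [IsScalarTower S A Y] [AddCommGroup Z] [Module S Z] [Module A Z]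
    [IsScalarTower S A Z] (f : X' →ₗ[S] Y') (g : Y' →ₗ[S] Z') (hf : Function.Injective f) (hfg : Function.Exact f g)
    (hg : Function.Surjective g) (F : X →ₗ[A] Y) (G : Y →ₗ[A] Z) (hF : Function.Injective F)
    (hFG : Function.Exact F G) (u : X' →ₗ[S] X) (v : Y' →ₗ[S] Y) (w : Z' →ₗ[S] Z) (huv : ∀ x, F (u x) = v (f x))
    (hvw : ∀ y, G (v y) = w (g y)) (hv : Function.Bijective (LinearMap.liftBaseChange A v))
    (hw : Function.Injective (LinearMap.liftBaseChange A w)) : Function.Bijective (LinearMap.liftBaseChange A u) := by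
  have hf' : Function.Injective (f.lTensor A) := LinearMap.lTensor_injective_of_exact_of_flat g hg f hf hfg A
  have c1 : ∀ z, F (LinearMap.liftBaseChange A u z) = LinearMap.liftBaseChange A v (f.lTensor A z) := by
    intro z
    induction z with
    | zero => simp
    | tmul a t => simp [huv]
    | add x y hx hy => simp [hx, hy]
  have c2 : ∀ z, G (LinearMap.liftBaseChange A v z) = LinearMap.liftBaseChange A w (g.lTensor A z) := by
    intro z
    induction z with
    | zero => simp
    | tmul a t => simp [hvw]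
    | add x y hx hy => simp [hx, hy]
  constructor
  · intro a b hab
    exact hf' (hv.1 ((c1 a).symm.trans ((congrArg F hab).trans (c1 b))))
  · intro t
    obtain ⟨z, hz⟩ := hv.2 (F t)
    have h0 : g.lTensor A z = 0 := hw (by
      rw [map_zero, ← c2, hz, hFG.apply_apply_eq_zero])
    obtain ⟨y, rfl⟩ := (lTensor_exact A hfg hg z).mp h0
    exact ⟨y, hF ((c1 y).trans hz)⟩

section BaseChange

variable {S P' M' A P M : Type u} [CommRing S] [CommRing P'] [Algebra S P'] [AddCommGroup M']
    [Module P' M'] [Module S M'] [IsScalarTower S P' M'] [CommRing A] [Algebra S A] [CommRing P] [Algebra A P]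
    [AddCommGroup M] [Module P M] [Module A M] [IsScalarTower A P M] [Module S M] [IsScalarTower S A M]
    [Algebra S P] [IsScalarTower S P M] [IsScalarTower S A P]
    (J' : Ideal P') (J : Ideal P) (ι : M' →ₗ[S] M)
    (hι : ∀ k, ∀ x ∈ (J' ^ k • (⊤ : Submodule P' M')), ι x ∈ J ^ k • (⊤ : Submodule P M))

/-- The map induced on a truncation. -/
noncomputable def truncMap (k : ℕ) :
    (M' ⧸ (J' ^ k • ⊤ : Submodule P' M')) →ₗ[S] M ⧸ (J ^ k • ⊤ : Submodule P M) :=
  (Submodule.liftQ ((J' ^ k • (⊤ : Submodule P' M')).restrictScalars S)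
      (((J ^ k • (⊤ : Submodule P M)).mkQ.restrictScalars S) ∘ₗ ι) fun x hx =>
        LinearMap.mem_ker.mpr ((Submodule.Quotient.mk_eq_zero (J ^ k • ⊤ : Submodule P M)).mpr (hι k x hx))) ∘ₗ
    (Submodule.Quotient.restrictScalarsEquiv S (J' ^ k • ⊤ : Submodule P' M')).symm.toLinearMap

theorem truncMap_mk (k : ℕ) (x : M') :
    truncMap J' J ι hι k (Submodule.Quotient.mk x) = Submodule.Quotient.mk (ι x) := rfl

/-- The map induced on a piece. -/
noncomputable def pieceMap (k : ℕ) : Piece J' M' k →ₗ[S] Piece J M k :=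
  (Submodule.liftQ ((Submodule.comap (J' ^ k • (⊤ : Submodule P' M')).subtype (J' ^ (k + 1) • ⊤)).restrictScalars S)
      (((Submodule.comap (J ^ k • (⊤ : Submodule P M)).subtype (J ^ (k + 1) • ⊤)).mkQ.restrictScalars S) ∘ₗ
        LinearMap.codRestrict ((J ^ k • (⊤ : Submodule P M)).restrictScalars S)
          (ι ∘ₗ (J' ^ k • (⊤ : Submodule P' M')).subtype.restrictScalars S) fun x => hι k x x.2)
      fun x hx => LinearMap.mem_ker.mpr
        ((Submodule.Quotient.mk_eq_zero (Submodule.comap (J ^ k • (⊤ : Submodule P M)).subtype (J ^ (k + 1) • ⊤))).mpr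
          (hι (k + 1) x hx))) ∘ₗ
    (Submodule.Quotient.restrictScalarsEquiv S _).symm.toLinearMap

theorem pieceMap_mk (k : ℕ) (x : ↥(J' ^ k • (⊤ : Submodule P' M'))) :
    pieceMap J' J ι hι k (Submodule.Quotient.mk x) = Submodule.Quotient.mk ⟨ι x, hι k x x.2⟩ := rfl

/-- Pieces commute with a base change with flat truncations. -/
theorem bijective_pieceMap (hbij : ∀ k, Function.Bijective (LinearMap.liftBaseChange A (truncMap J' J ι hι k)))
    (hflat : ∀ k, Module.Flat S (M' ⧸ (J' ^ k • (⊤ : Submodule P' M')))) (k : ℕ) :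
    Function.Bijective (LinearMap.liftBaseChange A (pieceMap J' J ι hι k)) := by
  haveI := hflat k
  let f : Piece J' M' k →ₗ[S] M' ⧸ (J' ^ (k + 1) • ⊤ : Submodule P' M') := (pieceIncl J' M' k).restrictScalars S
  let g : (M' ⧸ (J' ^ (k + 1) • ⊤ : Submodule P' M')) →ₗ[S] M' ⧸ (J' ^ k • ⊤ : Submodule P' M') :=
    (truncProj J' M' k).restrictScalars S
  let F : Piece J M k →ₗ[A] M ⧸ (J ^ (k + 1) • ⊤ : Submodule P M) := (pieceIncl J M k).restrictScalars A
  let G : (M ⧸ (J ^ (k + 1) • ⊤ : Submodule P M)) →ₗ[A] M ⧸ (J ^ k • ⊤ : Submodule P M) :=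
    (truncProj J M k).restrictScalars A
  have hf : Function.Injective f := pieceIncl_injective J' M' k
  have hfg : Function.Exact f g := exact_pieceIncl_truncProj J' M' k
  have hg : Function.Surjective g :=
    Submodule.factor_surjective (Submodule.smul_mono_left (Ideal.pow_le_pow_right k.le_succ) : J' ^ (k + 1) • (⊤ : Submodule P' M') ≤ J' ^ k • ⊤)
  have hF : Function.Injective F := pieceIncl_injective J M k
  have hFG : Function.Exact F G := exact_pieceIncl_truncProj J M k
  have huv : ∀ t, F (pieceMap J' J ι hι k t) = truncMap J' J ι hι (k + 1) (f t) := fun t => by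
    obtain ⟨x, rfl⟩ := Submodule.Quotient.mk_surjective _ t
    rfl
  have hvw : ∀ t, G (truncMap J' J ι hι (k + 1) t) = truncMap J' J ι hι k (g t) := fun t => by
    obtain ⟨x, rfl⟩ := Submodule.Quotient.mk_surjective _ t
    rfl
  exact bijective_liftBaseChange_of_rows f g hf hfg hg F G hF hFG _ _ _ huv hvw (hbij (k + 1)) (hbij k).1

end BaseChange

end Groth.FlatDescent.Trunc
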